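import Groth.Agent.Lib.FaltingsT3.Local
import Groth.Agent.Lib.DualRing.LocalizedEH
import Groth.Agent.Lib.DualCx22.LocalCohD
import Groth.Agent.Lib.InjMod.Matlis
import Groth.Agent.Lib.InjMod.Essential

/-!
# Annihilation of `H^i_q(M_q)` read off the dual
-/

set_option autoImplicit false
set_option linter.style.haveILetI false
universe u

open CategoryTheory CategoryTheory.Limits TensorProduct GrothLib.DualCx22 GrothLib.DualRing

attribute [local instance] HasDerivedCategory.standard

namespace GrothLib.FaltingsT3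

theorem exists_hull (B : Type u) [CommRing B] [IsLocalRing B] :
    ∃ (E : Type u) (_ : AddCommGroup E) (_ : Module B E) (f : IsLocalRing.ResidueField B →ₗ[B] E),
      InjHull.IsInjectiveHull f := by
  let K : ModuleCat.{u} B := ModuleCat.of B (IsLocalRing.ResidueField B)
  haveI : Injective (ModuleCat.of B (envJ K)) := injective_envJ K
  obtain ⟨E, f, -, hf⟩ := GrothLib.InjMod.exists_hull_of_embedding
    (Module.injective_module_of_injective_object B (envJ K)) (envι K).hom
    ((ModuleCat.mono_iff_injective _).1 (mono_envι K))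
  exact ⟨E, inferInstance, inferInstance, f, hf⟩

variable {A : Type u} [CommRing A] [IsNoetherianRing A] {ω : Dual.D A} (hω : Dual.IsDualizing A ω)

include hω in
/-- The dual localised at a prime, as a module. -/
theorem exists_localized_EH_equiv (p : PrimeSpectrum A) (M : Type u) [AddCommGroup M] [Module A M] [Module.Finite A M] :
    ∃ ω' : Dual.D (Rq p), Dual.IsDualizing (Rq p) ω' ∧ Dual.IsNormalized (Rq p) ω' ∧
      ∀ i, Nonempty (EH ω' (Dual.inD (Rq p) (LocalizedModule p.asIdeal.primeCompl M)) i ≃ₗ[Rq p]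
        Rq p ⊗[A] EH ω (Dual.inD A M) (deg hω p.asIdeal + i)) := by
  let B := Localization.AtPrime p.asIdeal
  haveI : Module.Flat A B := IsLocalization.flat B p.asIdeal.primeCompl
  haveI := GrothLib.DR.preservesFiniteLimits_extendScalars (algebraMap A B) GrothLib.DR.flat_algebraMap
  obtain ⟨a, b, hab⟩ := hω.finite_injective_dimension
  haveI : ω.IsGE a := isGE_of_hom_ring ω a fun i hi => hab A i (Or.inl hi)
  have hωB : Dual.IsDualizing B ((bcD B).obj ω) :=
    isDualizing_bcD_localization p.asIdeal.primeCompl B hω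
  have hmax : IsLocalRing.maximalIdeal B = p.asIdeal.map (algebraMap A B) :=
    Localization.AtPrime.map_eq_maximalIdeal.symm
  have hc : deg hωB (IsLocalRing.maximalIdeal B) = deg hω p.asIdeal := by
    by_contra hne
    refine (mu_ne_zero_iff hωB (IsLocalRing.maximalIdeal B) _).2 rfl ?_
    haveI : Subsingleton (B ⊗[A] EH ω (Dual.inD A (A ⧸ p.asIdeal)) (deg hωB (IsLocalRing.maximalIdeal B))) :=
      subsingleton_tensor_of_killed B fun y => by
        obtain ⟨s, hs, hsy⟩ := len_eq_zero_iff.1 (mu_ne_deg hω p.asIdeal hne) y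
        exact ⟨s, IsLocalization.map_units B (⟨s, hs⟩ : p.asIdeal.primeCompl), hsy⟩
    haveI := (nonempty_equiv_quotient_bcD B ω a p.asIdeal (deg hωB (IsLocalRing.maximalIdeal B))).some.toEquiv.subsingleton
    have h : ∀ (J : Ideal B), J = p.asIdeal.map (algebraMap A B) →
        Subsingleton (EH ((bcD B).obj ω) (Dual.inD B (B ⧸ J)) (deg hωB (IsLocalRing.maximalIdeal B))) := fun J hJ => by
      subst hJ
      assumption
    haveI := h _ hmax
    exact len_eq_zero_of_subsingleton
  refine ⟨_, isDualizing_shift hωB (deg hωB (IsLocalRing.maximalIdeal B)), isNormalized_shift hωB, fun i => ?_⟩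
  obtain ⟨e⟩ := nonempty_bcD_inD (A := A) B M
  let eM : Dual.inD B (B ⊗[A] M) ≅ Dual.inD B (LocalizedModule p.asIdeal.primeCompl M) :=
    (DerivedCategory.singleFunctor (ModuleCat.{u} B) 0).mapIso
      (LocalizedModule.isBaseChange p.asIdeal.primeCompl M).equiv.toModuleIso
  exact ⟨shiftTarget ((bcD B).obj ω) _ (deg hωB (IsLocalRing.maximalIdeal B)) i (deg hω p.asIdeal + i) (by rw [hc]) ≪≫ₗ
    ((Linear.homCongr B (e ≪≫ eM).symm (shiftBc B ω (deg hω p.asIdeal + i)).symm) ≪≫ₗ
      (θEquiv B (isBC_inD B ω a ((deg hω p.asIdeal + i) - a + 1).toNat M (deg hω p.asIdeal + i) (by omega))).symm)⟩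

/-- `a` kills `H^i_q(M_q)` iff it kills the dual in degree `deg q - i` at `q`. -/
theorem killed_local_iff_dual (q : PrimeSpectrum A) (M : Type u) [AddCommGroup M] [Module A M] [Module.Finite A M]
    (i : ℕ) (a : A) :
    (∀ x : (localCohomology (IsLocalRing.maximalIdeal (Rq q)) i).obj (locM q (ModuleCat.of A M)),
        algebraMap A (Rq q) a • x = 0) ↔
      ∀ φ : EH ω (Dual.inD A M) (deg hω q.asIdeal - i), ∃ s, s ∉ q.asIdeal ∧ s • a • φ = 0 := by
  let B := Rq q
  let N := LocalizedModule q.asIdeal.primeCompl M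
  haveI : Module.Finite B N := Module.Finite.equiv (LocalizedModule.isBaseChange q.asIdeal.primeCompl M).equiv
  obtain ⟨ω', hω', hn, he⟩ := exists_localized_EH_equiv hω q M
  obtain ⟨e⟩ := he (-(i : ℤ))
  obtain ⟨E, _, _, f, hf⟩ := exists_hull B
  obtain ⟨d⟩ := nonempty_LCH_dual hω' hn hf N i
  obtain ⟨X, -, ⟨eX⟩⟩ := exists_finite_hom_equiv hω' (Dual.inD B N) (finite_HD_inD N) (-(i : ℤ))
  let D := d.trans (eX.symm.congrLeft E B)
  let G := eX.trans e
  let b : B := algebraMap A B a
  haveI : IsLocalizedModule q.asIdeal.primeCompl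
      (TensorProduct.mk A B (EH ω (Dual.inD A M) (deg hω q.asIdeal + -(i : ℤ))) 1) :=
    (isLocalizedModule_iff_isBaseChange q.asIdeal.primeCompl B _).2 (TensorProduct.isBaseChange A _ B)
  have h1 : (∀ x : (localCohomology (IsLocalRing.maximalIdeal B) i).obj (locM q (ModuleCat.of A M)), b • x = 0) ↔
      b ∈ Module.annihilator B X := by
    rw [GrothLib.Matlis.annihilator_dual hf, Module.mem_annihilator]
    refine ⟨fun h φ => ?_, fun h x => D.injective ?_⟩
    · obtain ⟨x, rfl⟩ := D.surjective φ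
      exact ((map_smul D b x).symm.trans (congrArg D (h x))).trans (map_zero D)
    · exact ((map_smul D b x).trans (h _)).trans (map_zero D).symm
  refine h1.trans ?_
  rw [Module.mem_annihilator, show deg hω q.asIdeal - (i : ℤ) = deg hω q.asIdeal + -(i : ℤ) from rfl]
  constructor
  · intro h φ
    obtain ⟨x, hx⟩ := G.surjective ((1 : B) ⊗ₜ[A] φ)
    have h0 : TensorProduct.mk A B (EH ω (Dual.inD A M) (deg hω q.asIdeal + -(i : ℤ))) 1 (a • φ) = 0 := by
      rw [map_smul, TensorProduct.mk_apply, ← algebraMap_smul B a, ← hx]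
      exact ((map_smul G b x).symm.trans (congrArg G (h x))).trans (map_zero G)
    obtain ⟨s, hs⟩ := (IsLocalizedModule.eq_zero_iff q.asIdeal.primeCompl _).1 h0
    exact ⟨s, s.2, hs⟩
  · intro h x
    apply G.injective
    refine ((map_smul G b x).trans ?_).trans (map_zero G).symm
    generalize G x = y
    rw [algebraMap_smul]
    induction y with
    | zero => rw [smul_zero]
    | add y z hy hz => rw [smul_add, hy, hz, add_zero]
    | tmul c φ =>
      obtain ⟨s, hs, hs'⟩ := h φ
      have h0 : TensorProduct.mk A B (EH ω (Dual.inD A M) (deg hω q.asIdeal + -(i : ℤ))) 1 (a • φ) = 0 :=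
        (IsLocalizedModule.eq_zero_iff q.asIdeal.primeCompl _).2 ⟨⟨s, hs⟩, hs'⟩
      rw [← TensorProduct.tmul_smul, show c ⊗ₜ[A] (a • φ) = c • ((1 : B) ⊗ₜ[A] (a • φ)) by
        rw [TensorProduct.smul_tmul', smul_eq_mul, mul_one]]
      rw [TensorProduct.mk_apply] at h0
      rw [h0, smul_zero]

end GrothLib.FaltingsT3
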