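import Groth.Agent.Lib.FaltingsT3.Global
import Groth.Agent.Lib.FaltingsT3.Duality

/-!
# Faltings' annihilator theorem for specialisation-closed supports
-/

set_option autoImplicit false
set_option linter.style.haveILetI false
universe u

open CategoryTheory CategoryTheory.Limits GrothLib.DualCx22 GrothLib.DualRing PrimeSpectrum

attribute [local instance] HasDerivedCategory.standard

namespace GrothLib.FaltingsT3

variable {A : Type u} [CommRing A] [IsNoetherianRing A] {ω : Dual.D A} (hω : Dual.IsDualizing A ω)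

include hω in
/-- The length of the interval between two primes. -/
theorem krullDim_Icc {p q : PrimeSpectrum A} (h : p ≤ q) :
    Order.krullDim (Set.Icc p q) = (((deg hω q.asIdeal - deg hω p.asIdeal).toNat : ℕ) : WithBot ℕ∞) := by
  have hex : ∀ n : ℕ, ∀ x : PrimeSpectrum A, x ≤ q → deg hω q.asIdeal - deg hω x.asIdeal = n →
      ∃ l : LTSeries (PrimeSpectrum A), l.head = x ∧ l.last ≤ q ∧ l.length = n := by
    intro n
    induction n with
    | zero => exact fun x hx _ => ⟨RelSeries.singleton _ x, rfl, hx, rfl⟩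
    | succ n ih =>
      intro x hx hn
      have hlt : x < q := lt_of_le_of_ne hx fun he => by subst he; omega
      obtain ⟨z, hxz, hzq⟩ := exists_covBy_le (hω := hω) hlt
      have hz : degS hω z = degS hω x + 1 := degS_covBy hω hxz
      obtain ⟨l, hl, hlq, hlen⟩ := ih z hzq (by simp only [degS] at hz; omega)
      refine ⟨l.cons x (show x < l.head from hl ▸ hxz.1), RelSeries.head_cons _ _ _, ?_, ?_⟩
      · rw [RelSeries.last_cons]
        exact hlq
      · simp [RelSeries.cons_length, hlen]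
  have hnn : 0 ≤ deg hω q.asIdeal - deg hω p.asIdeal := by
    have := (degS_strictMono hω).monotone h
    simp only [degS] at this
    omega
  obtain ⟨c, hc⟩ := Int.eq_ofNat_of_zero_le hnn
  rw [hc, Int.toNat_natCast]
  refine le_antisymm (iSup_le fun l => ?_) ?_
  · let f : Set.Icc p q → Fin (c + 1) := fun x => ⟨(degS hω x.1 - degS hω p).toNat, by
      have := (degS_strictMono hω).monotone x.2.2
      simp only [degS] at this ⊢
      omega⟩
    have hf : StrictMono f := fun x y hxy => by
      have h1 := degS_strictMono hω (show x.1 < y.1 from hxy)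
      have h2 := (degS_strictMono hω).monotone x.2.1
      exact Fin.mk_lt_mk.2 (by omega)
    have h1 := Fintype.card_le_of_injective _ (hf.comp l.strictMono).injective
    simp only [Fintype.card_fin, Nat.add_le_add_iff_right] at h1
    exact WithBot.coe_le_coe.2 (Nat.cast_le.2 h1)
  · obtain ⟨l, hl, hlq, hlen⟩ := hex c p h hc
    let l' : LTSeries (Set.Icc p q) :=
      { length := l.length
        toFun := fun i => ⟨l i, hl.ge.trans (l.monotone (Fin.zero_le i)), (l.monotone (Fin.le_last i)).trans hlq⟩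
        step := fun i => l.step i }
    rw [← hlen]
    exact Order.LTSeries.length_le_krullDim l'

variable (M : Type u) [AddCommGroup M] [Module A M] [Module.Finite A M]

/-- The condition of the theorem. -/
def DepthCond (T T' : Set (PrimeSpectrum A)) (s : ℕ) : Prop :=
  ∀ p q : PrimeSpectrum A, p ∉ T' → q ∈ T → p ≤ q → (s : WithBot ℕ∞) <
    ((LocCoh.depth (Localization.AtPrime p.asIdeal) (LocalizedModule p.asIdeal.primeCompl M) : ℕ∞) : WithBot ℕ∞) +
      Order.krullDim (Set.Icc p q)

variable {M}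

/-- An ideal with locus in `T'` killing at every point where the module is supported in `T'` nearby. -/
theorem exists_ideal_killing {T' : Set (PrimeSpectrum A)} (hT' : StableUnderSpecialization T') (X : Type u)
    [AddCommGroup X] [Module A X] [Module.Finite A X] :
    ∃ J : Ideal A, zeroLocus (J : Set A) ⊆ T' ∧ ∀ q : PrimeSpectrum A,
      (∀ r, r ≤ q → r ∈ Module.support A X → r ∈ T') → ∀ a ∈ J, ∀ x : X, Van q (a • x) := by
  classical
  let Γ := Gam T' X
  obtain ⟨G, hG⟩ := (IsNoetherian.noetherian Γ : Γ.FG)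
  choose J hJ hJx using fun x : {x // x ∈ G} =>
    (mem_Gam_iff_exists hT').mp (show x.1 ∈ Γ from hG ▸ Submodule.subset_span x.2)
  refine ⟨∏ x ∈ G.attach, J x, GrothLib.LCSupp.mem_prod _ _ fun x _ => hJ x, fun q hq a ha x => ?_⟩
  have hkill : ∀ y ∈ Γ, a • y = 0 := fun y hy => by
    rw [← hG] at hy
    induction hy using Submodule.span_induction with
    | mem z hz => exact hJx ⟨z, hz⟩ a (Ideal.le_of_dvd (Finset.dvd_prod_of_mem _ (Finset.mem_attach _ ⟨z, hz⟩)) ha)
    | zero => exact smul_zero a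
    | add y z _ _ hy hz => rw [smul_add, hy, hz, add_zero]
    | smul r z _ hz => rw [smul_comm, hz, smul_zero]
  suffices h : ∃ t, t ∉ q.asIdeal ∧ t • x ∈ Γ by
    obtain ⟨t, ht, htx⟩ := h
    exact ⟨t, ht, by rw [smul_comm]; exact hkill _ htx⟩
  by_contra hne
  push Not at hne
  -- an associated prime of `X / Γ` below `q`
  let xb : X ⧸ Γ := Submodule.Quotient.mk x
  have hann : Module.annihilator A (X ⧸ Γ) ≤ q.asIdeal := fun c hc => by
    by_contra hcq
    exact hne c hcq ((Submodule.Quotient.mk_eq_zero Γ).1 (Module.mem_annihilator.1 hc xb))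
  obtain ⟨r, hr, hrq⟩ := Ideal.exists_minimalPrimes_le hann
  have hass := Module.associatedPrimes.minimalPrimes_annihilator_subset_associatedPrimes A (X ⧸ Γ) hr
  obtain ⟨hrp, y, hy⟩ := isAssociatedPrime_iff.mp hass
  obtain ⟨y, rfl⟩ := Submodule.Quotient.mk_surjective Γ y
  have hyΓ : y ∉ Γ := fun hmem => hrp.ne_top (by
    rw [hy, (Submodule.Quotient.mk_eq_zero _).mpr hmem]; simp)
  have hrsupp : (⟨r, hrp⟩ : PrimeSpectrum A) ∈ Module.support A X := by
    rw [Module.mem_support_iff']
    refine ⟨y, fun s hs h0 => hs (hy.ge ?_)⟩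
    rw [Submodule.mem_colon_singleton, Submodule.mem_bot, ← Submodule.Quotient.mk_smul, h0,
      Submodule.Quotient.mk_zero]
  have hrT : (⟨r, hrp⟩ : PrimeSpectrum A) ∈ T' := hq _ hrq hrsupp
  refine hyΓ fun r' hr' => ?_
  obtain ⟨b, hbr, hbr'⟩ := SetLike.not_le_iff_exists.mp (fun hle : r ≤ r'.asIdeal =>
    hr' (hT' ((PrimeSpectrum.le_iff_specializes ⟨r, hrp⟩ r').1 hle) hrT))
  have hby : b • y ∈ Γ := (Submodule.Quotient.mk_eq_zero Γ).1 (by
    have := hy.le hbr
    rwa [Submodule.mem_colon_singleton, Submodule.mem_bot, ← Submodule.Quotient.mk_smul] at this)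
  obtain ⟨t, ht, ht'⟩ := hby r' hr'
  exact ⟨t * b, r'.isPrime.mul_notMem ht hbr', by rw [mul_smul]; exact ht'⟩

include hω in
/-- **Sufficiency at the points**: under the depth condition an ideal works at every point of `T`. -/
theorem exists_killer_local {T T' : Set (PrimeSpectrum A)} (hT' : StableUnderSpecialization T') (s : ℕ)
    (h : DepthCond M T T' s) :
    ∃ J : Ideal A, zeroLocus (J : Set A) ⊆ T' ∧ ∀ a ∈ J, ∀ q ∈ T, ∀ i : ℕ, i ≤ s →
      Cond (pres i (ModuleCat.of A M)).g.hom a q := by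
  classical
  obtain ⟨lo, hi, hrange⟩ := exists_deg_range hω
  have hX : ∀ j : ℤ, ∃ J : Ideal A, zeroLocus (J : Set A) ⊆ T' ∧ ∀ a ∈ J, ∀ q ∈ T, deg hω q.asIdeal ≤ j + s →
      ∀ φ : EH ω (Dual.inD A M) j, ∃ t, t ∉ q.asIdeal ∧ t • a • φ = 0 := by
    intro j
    obtain ⟨X, hXf, ⟨eX⟩⟩ := exists_finite_hom_equiv hω (Dual.inD A M) (finite_HD_inD M) j
    obtain ⟨J, hJ, hJk⟩ := exists_ideal_killing hT' X
    refine ⟨J, hJ, fun a ha q hq hdeg φ => ?_⟩
    obtain ⟨x, rfl⟩ := eX.surjective φ
    suffices hsupp : ∀ r, r ≤ q → r ∈ Module.support A X → r ∈ T' by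
      obtain ⟨t, ht, ht'⟩ := hJk q hsupp a ha x
      exact ⟨t, ht, by rw [← map_smul, ← map_smul, ht', map_zero]⟩
    intro r hrq hr
    by_contra hrT
    have hrE : r ∈ Module.support A (EH ω (Dual.inD A M) j) := by
      rw [Module.mem_support_iff'] at hr ⊢
      obtain ⟨x, hx⟩ := hr
      exact ⟨eX x, fun t ht h0 => hx t ht (eX.injective (by rw [map_smul, map_zero]; exact h0))⟩
    have hrM : r ∈ Module.support A M := by
      by_contra hr'
      refine (nontrivial_localized_iff r.asIdeal _).mp (Module.mem_support_iff.mp hrE) ?_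
      refine len_EH_of_len_eq_zero ω r.asIdeal ?_ j
      by_contra h0
      exact hr' (Module.mem_support_iff.mpr ((nontrivial_localized_iff r.asIdeal M).mpr h0))
    obtain ⟨k, hk, -, hle, -⟩ := exists_degrees hω r M hrM
    have h1 := h r q hrT hq hrq
    rw [hk, krullDim_Icc hω hrq] at h1
    have h2 : s < k + (deg hω q.asIdeal - deg hω r.asIdeal).toNat := by exact_mod_cast h1
    have h3 := hle j hrE
    have h4 := (degS_strictMono hω).monotone hrq
    simp only [degS] at h4
    omega
  choose J hJ hJk using hX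
  refine ⟨∏ j ∈ Finset.Icc (lo - (s : ℤ)) hi, J j, GrothLib.LCSupp.mem_prod _ _ fun j _ => hJ j,
    fun a ha q hq i hi' => ?_⟩
  refine (killed_local_iff q a i _).mp ((killed_local_iff_dual hω q M i a).mpr fun φ => ?_)
  have hmem : deg hω q.asIdeal - (i : ℤ) ∈ Finset.Icc (lo - (s : ℤ)) hi := by
    rw [Finset.mem_Icc]
    have := hrange q
    simp only [degS] at this
    omega
  exact hJk _ a (Ideal.le_of_dvd (Finset.dvd_prod_of_mem _ hmem) ha) q hq (by omega) φ

include hω in
/-- From the points to the whole of `T`. -/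
theorem exists_pow_killed {T : Set (PrimeSpectrum A)} (hT : StableUnderSpecialization T) (M' : ModuleCat.{u} A) (i : ℕ)
    (a : A) (h : ∀ q ∈ T, Cond (pres i M').g.hom a q) :
    ∃ n : ℕ, ∀ x : (GrothLib.LCSupp.HF T i).obj M', a ^ n • x = 0 := by
  obtain ⟨lo, hi, hrange⟩ := exists_deg_range hω
  refine ⟨(hi + 1 - lo).toNat, (killed_iff hT _ i M').mpr fun m hm => ?_⟩
  obtain ⟨e, he, h'⟩ := exists_pow_smul_sub_mem (pres i M').g.hom (pres i M').baer a (degS hω)
    (degS_strictMono hω) hrange (T₁ := ∅) (fun _ _ _ hx => hx) hT ⊤ le_top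
    (fun q hq _ m _ hm => h q hq m hm) m hm trivial
  refine ⟨e, he, (sub_eq_zero.mp ?_).symm⟩
  by_contra hne
  obtain ⟨P, hP, hle⟩ := Ideal.exists_le_maximal
    (LinearMap.ker (LinearMap.toSpanSingleton A (pres i M').C
      (a ^ (hi + 1 - lo).toNat • m - (pres i M').g.hom e))) (fun htop => hne (by
        have := LinearMap.mem_ker.1 (htop ▸ (Submodule.mem_top : (1 : A) ∈ _))
        rwa [LinearMap.toSpanSingleton_apply, one_smul] at this))
  exact not_van_iff.2 hle (h' ⟨P, hP.isPrime⟩ (Set.notMem_empty _))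

include hω in
/-- An ideal killing `H^i_T(M)` for `i ≤ s` under the depth condition. -/
theorem exists_killer {T T' : Set (PrimeSpectrum A)} (hT : StableUnderSpecialization T)
    (hT' : StableUnderSpecialization T') (s : ℕ) (h : DepthCond M T T' s) :
    ∃ J : Ideal A, zeroLocus (J : Set A) ⊆ T' ∧ ∀ i : ℕ, i ≤ s → ∀ a ∈ J, ∀ x : Dual2.HT T i M, a • x = 0 := by
  obtain ⟨J, hJ, hJk⟩ := exists_killer_local hω hT' s h
  let K : Ideal A := ⨅ i : Fin (s + 1), Module.annihilator A (Dual2.HT T i.1 M)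
  have hle : J ≤ K.radical := fun a ha => by
    choose n hn using fun i : Fin (s + 1) =>
      exists_pow_killed hω hT (ModuleCat.of A M) i.1 a fun q hq => hJk a ha q hq i.1 (Nat.lt_succ_iff.1 i.2)
    refine ⟨∑ i, n i, ?_⟩
    simp only [K, Ideal.mem_iInf, Module.mem_annihilator]
    intro i x
    obtain ⟨k, hk⟩ := le_iff_exists_add'.1 (Finset.single_le_sum (fun j _ => Nat.zero_le (n j)) (Finset.mem_univ i))
    rw [hk, pow_add, mul_smul, hn i x, smul_zero]
  obtain ⟨N, hN⟩ := Ideal.exists_pow_le_of_le_radical_of_fg hle (IsNoetherian.noetherian _)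
  refine ⟨J ^ N, GrothLib.LCSupp.mem_pow hJ N, fun i hi a ha x => ?_⟩
  have := hN ha
  simp only [K, Ideal.mem_iInf, Module.mem_annihilator] at this
  exact this ⟨i, Nat.lt_succ_of_le hi⟩ x

omit [IsNoetherianRing A] in
theorem pres_succ (M' : ModuleCat.{u} A) (i : ℕ) : pres (i + 1) M' =
    { E := envJ (pres i M').C, C := coz (pres i M').C, g := envπ (pres i M').C, baer := baer_envJ (pres i M').C } := by
  induction i generalizing M' with
  | zero => rfl
  | succ i ih =>
    rcases i with - | j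
    · rfl
    · exact ih (coz M')

include hω in
/-- From a killer on `T` and killers at the points in lower degree, a killer at the points. -/
theorem cond_mul {T : Set (PrimeSpectrum A)} (hT : StableUnderSpecialization T) (M' : ModuleCat.{u} A) (i : ℕ)
    (a b : A) (ha : ∀ x : (GrothLib.LCSupp.HF T (i + 1)).obj M', a • x = 0)
    (hb : ∀ q ∈ T, Cond (pres i M').g.hom b q) :
    ∃ n : ℕ, ∀ q ∈ T, Cond (pres (i + 1) M').g.hom (b ^ n * a) q := by
  obtain ⟨lo, hi, hrange⟩ := exists_deg_range hω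
  refine ⟨(hi + 1 - lo).toNat, fun q hq => ?_⟩
  have hcrit := (killed_iff hT a (i + 1) M').mp ha
  rw [pres_succ] at hcrit ⊢
  intro (m : coz (pres i M').C) hm
  obtain ⟨u, hu, hum⟩ := exists_supported hm
  let T₁ : Set (PrimeSpectrum A) := {r | q ≤ r}
  have hT₁ : StableUnderSpecialization T₁ := fun x y hxy hx => le_trans hx ((PrimeSpectrum.le_iff_specializes x y).2 hxy)
  have humT : u • m ∈ Gam T (coz (pres i M').C) := fun r hr =>
    hum r fun hqr => hr (hT ((PrimeSpectrum.le_iff_specializes q r).1 hqr) hq)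
  obtain ⟨e, he, hge⟩ := hcrit _ humT
  change (envπ (pres i M').C).hom e = a • u • m at hge
  -- correct `e` modulo sections supported on `V(q)`
  let ι := (envι (pres i M').C).hom
  have hι : Function.Injective ι := (ModuleCat.mono_iff_injective _).1 (mono_envι _)
  let K : Submodule A (envJ (pres i M').C) := (Gam T₁ (coz (pres i M').C)).comap (envπ (pres i M').C).hom
  have hπι : ∀ y, (envπ (pres i M').C).hom (ι y) = 0 := fun y => (Submodule.Quotient.mk_eq_zero _).2 ⟨y, rfl⟩
  have hK : LinearMap.range (ι ∘ₗ (pres i M').g.hom) ≤ K := by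
    rintro _ ⟨x, rfl⟩
    show (envπ (pres i M').C).hom (ι ((pres i M').g.hom x)) ∈ Gam T₁ _
    rw [hπι]
    exact zero_mem _
  obtain ⟨e₂, he₂, h₂⟩ := exists_pow_smul_sub_mem (ι ∘ₗ (pres i M').g.hom) (pres i M').baer b (degS hω)
    (degS_strictMono hω) hrange (T₁ := T₁) hT₁ hT K hK
    (fun r hr hr1 w hw hwv => by
      obtain ⟨t, ht, ht'⟩ := (hw : (envπ (pres i M').C).hom w ∈ Gam T₁ _) r hr1
      rw [← map_smul] at ht'
      obtain ⟨c, hc⟩ : t • w ∈ LinearMap.range ι := (Submodule.Quotient.mk_eq_zero _).1 ht'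
      have hcv : ∀ r', r' < r → Van r' c := fun r' hr' => by
        obtain ⟨s', hs', hs''⟩ := (hwv r' hr').smul t
        exact ⟨s', hs', hι (by rw [map_smul, hc, hs'', map_zero])⟩
      obtain ⟨e', s', hs', he', hse⟩ := hb r hr c hcv
      refine ⟨e', s' * t, r.isPrime.mul_notMem hs' ht, he', ?_⟩
      rw [LinearMap.comp_apply, ← hse, map_smul, map_smul, hc, mul_smul, smul_comm b t])
    e he (by
      show (envπ (pres i M').C).hom e ∈ Gam T₁ _
      rw [hge]
      exact Submodule.smul_mem _ a fun r hr => hum r hr)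
  refine ⟨b ^ (hi + 1 - lo).toNat • e - ι ((pres i M').g.hom e₂), u, hu, fun r hr => h₂ r hr.not_ge, ?_⟩
  show u • (b ^ (hi + 1 - lo).toNat * a) • m = (envπ (pres i M').C).hom _
  rw [map_sub, hπι, sub_zero, map_smul, hge, mul_smul, smul_comm u, smul_comm u a]

include hω in
/-- **Necessity**. -/
theorem depthCond_of_killer {T T' : Set (PrimeSpectrum A)} (hT : StableUnderSpecialization T)
    (hT' : StableUnderSpecialization T') :
    ∀ s : ℕ, (∃ J : Ideal A, zeroLocus (J : Set A) ⊆ T' ∧
      ∀ i : ℕ, i ≤ s → ∀ a ∈ J, ∀ x : Dual2.HT T i M, a • x = 0) → DepthCond M T T' s := by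
  intro s
  induction s using Nat.strong_induction_on with
  | _ s ih =>
    rintro ⟨J, hJ, hJk⟩ p q hp hq hpq
    by_cases hpM : p ∈ Module.support A M
    swap
    · haveI : Subsingleton (LocalizedModule p.asIdeal.primeCompl M) := Module.notMem_support_iff.mp hpM
      rw [GrothLib.Depth.depth_eq_top_of_subsingleton, krullDim_Icc hω hpq]
      exact WithBot.coe_lt_coe.2 (by simp)
    obtain ⟨k, hk, hkmem, -, -⟩ := exists_degrees hω p M hpM
    rw [hk, krullDim_Icc hω hpq]
    suffices hs : s < k + (deg hω q.asIdeal - deg hω p.asIdeal).toNat by exact_mod_cast hs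
    by_contra hle
    have hdeg := (degS_strictMono hω).monotone hpq
    simp only [degS] at hdeg
    -- the offending degree
    obtain ⟨i, hi⟩ : ∃ i : ℕ, (i : ℤ) = k + (deg hω q.asIdeal - deg hω p.asIdeal) :=
      ⟨k + (deg hω q.asIdeal - deg hω p.asIdeal).toNat, by omega⟩
    have his : i ≤ s := by omega
    obtain ⟨a, haJ, hap⟩ := SetLike.not_le_iff_exists.mp (fun hle : J ≤ p.asIdeal => hp (hJ hle))
    -- an element outside `p` killing at `q` in degree `i`
    obtain ⟨c, hcp, hc⟩ : ∃ c, c ∉ p.asIdeal ∧ Cond (pres i (ModuleCat.of A M)).g.hom c q := by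
      rcases i with - | i'
      · refine ⟨a, hap, fun m hm => ?_⟩
        obtain ⟨u, hu, hum⟩ := exists_supported hm
        obtain ⟨e, -, he⟩ := (killed_iff hT a 0 (ModuleCat.of A M)).mp (fun x => hJk 0 his a haJ x) (u • m)
          (fun r hr => hum r fun hqr => hr (hT ((PrimeSpectrum.le_iff_specializes q r).1 hqr) hq))
        exact ⟨e, u, hu, fun r _ => by rw [show e = 0 from rfl]; exact Van.zero r,
          (smul_comm u a m).trans he.symm⟩
      · obtain ⟨J', hJ', hJk'⟩ := exists_killer_local hω hT' i'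
          (ih i' (by omega) ⟨J, hJ, fun j hj => hJk j (hj.trans (by omega))⟩)
        obtain ⟨b, hbJ, hbp⟩ := SetLike.not_le_iff_exists.mp (fun hle : J' ≤ p.asIdeal => hp (hJ' hle))
        obtain ⟨n, hn⟩ := cond_mul hω hT (ModuleCat.of A M) i' a b (fun x => hJk (i' + 1) his a haJ x)
          fun r hr => hJk' b hbJ r hr i' le_rfl
        exact ⟨b ^ n * a, p.isPrime.mul_notMem (fun h => hbp (p.isPrime.mem_of_pow_mem n h)) hap, hn q hq⟩
    have hd := (killed_local_iff_dual hω q M i c).mp ((killed_local_iff q c i _).mpr hc)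
    rw [show deg hω q.asIdeal - (i : ℤ) = deg hω p.asIdeal - k by omega] at hd
    obtain ⟨φ, hφ⟩ := Module.mem_support_iff'.mp hkmem
    obtain ⟨t, ht, ht'⟩ := hd φ
    exact hφ (t * c) (p.isPrime.mul_notMem (fun h => ht (hpq h)) hcp) (by rw [mul_smul]; exact ht')

include hω in
/-- **Faltings' annihilator theorem**. -/
theorem annihilator_iff {T T' : Set (PrimeSpectrum A)} (hT : StableUnderSpecialization T)
    (hT' : StableUnderSpecialization T') (s : ℕ) :
    (∃ J : Ideal A, zeroLocus (J : Set A) ⊆ T' ∧ ∀ i : ℕ, i ≤ s → ∀ a ∈ J, ∀ x : Dual2.HT T i M, a • x = 0) ↔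
      DepthCond M T T' s :=
  ⟨depthCond_of_killer hω hT hT' s, exists_killer hω hT hT' s⟩

end GrothLib.FaltingsT3
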