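import Groth.Agent.Lib.FaltingsT3.Global
import Groth.Agent.Lib.LC.Basic

/-!
# `H^i_{V(I)}` and `H^i_I` have the same annihilator
-/

set_option autoImplicit false
universe u

open CategoryTheory CategoryTheory.Limits CategoryTheory.Abelian PrimeSpectrum

namespace GrothLib.FaltingsT3

variable {R : Type u} [CommRing R] [IsNoetherianRing R] (I : Ideal R)

/-- An element kills `H^i_I(M)` iff it kills `H^i_{V(I)}(M)`. -/
theorem killed_zeroLocus_iff (a : R) (i : ℕ) (M : ModuleCat.{u} R) :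
    (∀ x : (GrothLib.LCSupp.HF (zeroLocus (I : Set R)) i).obj M, a • x = 0) ↔
      ∀ x : (localCohomology I i).obj M, a • x = 0 := by
  have hI : ∀ n : ℕ, zeroLocus ((I ^ n : Ideal R) : Set R) ⊆ zeroLocus (I : Set R) :=
    GrothLib.LCSupp.mem_pow subset_rfl
  have hpow : ∀ K : Ideal R, zeroLocus (K : Set R) ⊆ zeroLocus (I : Set R) → ∀ n : ℕ, ∃ m, n ≤ m ∧ I ^ m ≤ K := by
    intro K hK n
    have hle : I ≤ K.radical := fun x hx => by
      rw [Ideal.radical_eq_sInf, Ideal.mem_sInf]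
      exact fun {P} hP => hK (show (⟨P, hP.2⟩ : PrimeSpectrum R) ∈ zeroLocus (K : Set R) from hP.1) hx
    obtain ⟨m, hm⟩ := Ideal.exists_pow_le_of_le_radical_of_fg hle (IsNoetherian.noetherian _)
    exact ⟨max n m, le_max_left _ _, (Ideal.pow_le_pow_right (le_max_right _ _)).trans hm⟩
  have hq : ∀ {n m : ℕ} (h : n ≤ m), GrothLib.LC.quotMap I h = GrothLib.LCSupp.quotMap (Ideal.pow_le_pow_right h) :=
    fun _ => ModuleCat.hom_ext (Submodule.linearMap_qext _ (LinearMap.ext fun _ => rfl))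
  constructor
  · intro h x
    obtain ⟨n, e, rfl⟩ := GrothLib.LC.exists_toH I x
    have h0 := h (GrothLib.LCSupp.toHT i (I ^ n) (hI n) M e)
    rw [← map_smul, GrothLib.LCSupp.toHT_eq_zero_iff] at h0
    obtain ⟨K, hK, hle, he⟩ := h0
    obtain ⟨m, hnm, hm⟩ := hpow K hK n
    rw [← map_smul, GrothLib.LC.toH_eq_zero_iff]
    refine ⟨m, hnm, ?_⟩
    have h2 : GrothLib.LC.quotMap I hnm = GrothLib.LCSupp.quotMap hm ≫ GrothLib.LCSupp.quotMap hle := by
      rw [hq, GrothLib.LCSupp.quotMap_comp]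
    rw [h2, ← Ext.mk₀_comp_mk₀, Ext.comp_assoc _ _ _ (zero_add 0) (zero_add i) (by simp), he, Ext.comp_zero]
  · intro h x
    obtain ⟨J, hJ, e, rfl⟩ := GrothLib.LCSupp.exists_toHT x
    obtain ⟨n, -, hn⟩ := hpow J hJ 0
    rw [← GrothLib.LCSupp.toHT_restrict (hI n) hn e, ← map_smul, GrothLib.LCSupp.toHT_eq_zero_iff]
    have h0 := h (GrothLib.LC.toH I i n M ((Ext.mk₀ (GrothLib.LCSupp.quotMap hn)).comp e (zero_add i)))
    rw [← map_smul, GrothLib.LC.toH_eq_zero_iff] at h0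
    obtain ⟨m, hnm, hm⟩ := h0
    rw [hq] at hm
    exact ⟨I ^ m, hI m, Ideal.pow_le_pow_right hnm, hm⟩

end GrothLib.FaltingsT3
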