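import Mathlib

/-!
# Sections with supports in a specialisation-closed set, and the passage from points to sets
-/

set_option autoImplicit false
universe u

namespace GrothLib.FaltingsT3

variable {R : Type u} [CommRing R]

/-- `m` vanishes at `r`. -/
def Van {M : Type u} [AddCommGroup M] [Module R M] (r : PrimeSpectrum R) (m : M) : Prop :=
  ∃ s : R, s ∉ r.asIdeal ∧ s • m = 0

variable {M E : Type u} [AddCommGroup M] [Module R M] [AddCommGroup E] [Module R E]

theorem Van.zero (r : PrimeSpectrum R) : Van r (0 : M) := ⟨1, r.asIdeal.one_notMem, smul_zero _⟩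

theorem Van.add {r : PrimeSpectrum R} {m m' : M} (h : Van r m) (h' : Van r m') : Van r (m + m') := by
  obtain ⟨s, hs, hs'⟩ := h
  obtain ⟨t, ht, ht'⟩ := h'
  refine ⟨s * t, r.isPrime.mul_notMem hs ht, ?_⟩
  rw [smul_add, mul_smul s t m', ht', smul_zero, mul_comm, mul_smul, hs', smul_zero, add_zero]

theorem Van.smul {r : PrimeSpectrum R} {m : M} (h : Van r m) (c : R) : Van r (c • m) := by
  obtain ⟨s, hs, hs'⟩ := h
  exact ⟨s, hs, by rw [smul_comm, hs', smul_zero]⟩

theorem Van.map {r : PrimeSpectrum R} {m : M} (h : Van r m) (g : M →ₗ[R] E) : Van r (g m) := by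
  obtain ⟨s, hs, hs'⟩ := h
  exact ⟨s, hs, by rw [← map_smul, hs', map_zero]⟩

theorem Van.neg {r : PrimeSpectrum R} {m : M} (h : Van r m) : Van r (-m) := neg_one_smul R m ▸ h.smul (-1)

theorem Van.sub {r : PrimeSpectrum R} {m m' : M} (h : Van r m) (h' : Van r m') : Van r (m - m') :=
  sub_eq_add_neg m m' ▸ h.add h'.neg

theorem not_van_iff {r : PrimeSpectrum R} {m : M} :
    ¬ Van r m ↔ LinearMap.ker (LinearMap.toSpanSingleton R M m) ≤ r.asIdeal := by
  refine ⟨fun h s hs => ?_, fun h ⟨s, hs, hs'⟩ => hs (h (LinearMap.mem_ker.2 hs'))⟩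
  by_contra hsr
  exact h ⟨s, hsr, LinearMap.mem_ker.1 hs⟩

theorem not_van_of_le {p q : PrimeSpectrum R} (h : p ≤ q) {m : M} (hm : ¬ Van p m) : ¬ Van q m :=
  fun ⟨s, hs, hs'⟩ => hm ⟨s, fun hp => hs (h hp), hs'⟩

/-- The elements supported in `T`. -/
def Gam (T : Set (PrimeSpectrum R)) (M : Type u) [AddCommGroup M] [Module R M] : Submodule R M where
  carrier := {m | ∀ r, r ∉ T → Van r m}
  zero_mem' := fun r _ => Van.zero r
  add_mem' := fun ha hb r hr => (ha r hr).add (hb r hr)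
  smul_mem' := fun c _ hm r hr => (hm r hr).smul c

theorem mem_Gam {T : Set (PrimeSpectrum R)} {m : M} : m ∈ Gam T M ↔ ∀ r, r ∉ T → Van r m := Iff.rfl

/-- The local condition at `q`: `a` carries sections supported at `q` into the image of `g`. -/
def Cond (g : E →ₗ[R] M) (a : R) (q : PrimeSpectrum R) : Prop :=
  ∀ m : M, (∀ r, r < q → Van r m) → ∃ (e : E) (s : R), s ∉ q.asIdeal ∧ (∀ r, r < q → Van r e) ∧ s • a • m = g e

/-- The element `e / s` of an injective module, supported on `V(q)`. -/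
theorem exists_divide [IsNoetherianRing R] (hE : Module.Baer R E) {q : PrimeSpectrum R} {e : E}
    (he : ∀ r, r < q → Van r e) {s : R} (hs : s ∉ q.asIdeal) :
    ∃ e' : E, (∀ r : PrimeSpectrum R, ¬ q ≤ r → Van r e') ∧ ∃ u, u ∉ q.asIdeal ∧ u • (s • e' - e) = 0 := by
  classical
  let P : Ideal R :=
    { carrier := {b | ∃ u, u ∉ q.asIdeal ∧ u • b • e = 0}
      zero_mem' := ⟨1, q.asIdeal.one_notMem, by rw [zero_smul, smul_zero]⟩
      add_mem' := fun {x y} ⟨u, hu, hu'⟩ ⟨v, hv, hv'⟩ => ⟨u * v, q.isPrime.mul_notMem hu hv, by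
        rw [add_smul, smul_add, mul_smul u v (y • e), hv', smul_zero, mul_comm, mul_smul, hu', smul_zero, add_zero]⟩
      smul_mem' := fun c x ⟨u, hu, hu'⟩ => ⟨u, hu, by
        rw [smul_eq_mul, mul_smul, smul_comm, hu', smul_zero]⟩ }
  have hP : ∀ x : R, ∀ t, t ∉ q.asIdeal → t * x ∈ P → x ∈ P := fun x t ht ⟨u, hu, hu'⟩ =>
    ⟨u * t, q.isPrime.mul_notMem hu ht, by rw [mul_smul, ← mul_smul t, hu']⟩
  -- one denominator
  obtain ⟨u₀, hu₀, hu₀'⟩ : ∃ u₀, u₀ ∉ q.asIdeal ∧ ∀ b ∈ P, u₀ • b • e = 0 := by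
    obtain ⟨G, hG⟩ := (IsNoetherian.noetherian P : P.FG)
    choose u hu hu' using fun b : {b // b ∈ G} => (show b.1 ∈ P from hG ▸ Ideal.subset_span b.2)
    refine ⟨∏ b ∈ G.attach, u b, fun h => ?_, fun b hb => ?_⟩
    · obtain ⟨b, -, hb⟩ := (Ideal.IsPrime.prod_mem_iff (hp := q.isPrime)).1 h
      exact hu b hb
    · rw [← hG] at hb
      induction hb using Submodule.span_induction with
      | mem x hx =>
        rw [← Finset.prod_erase_mul _ _ (Finset.mem_attach G ⟨x, hx⟩), mul_smul, hu', smul_zero]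
      | zero => rw [zero_smul, smul_zero]
      | add x y _ _ hx hy => rw [add_smul, smul_add, hx, hy, add_zero]
      | smul c x _ hx => rw [smul_eq_mul, mul_smul, smul_comm, hx, smul_zero]
  let φ₀ : (R ⧸ P) →ₗ[R] E :=
    Submodule.liftQ P (LinearMap.toSpanSingleton R E (u₀ • e)) fun b hb => by
      rw [LinearMap.mem_ker, LinearMap.toSpanSingleton_apply, smul_comm]
      exact hu₀' b hb
  let μ : (R ⧸ P) →ₗ[R] (R ⧸ P) := (s * u₀) • LinearMap.id
  have hμ : Function.Injective μ := by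
    rw [← LinearMap.ker_eq_bot, eq_bot_iff]
    intro x hx
    obtain ⟨x, rfl⟩ := Submodule.Quotient.mk_surjective P x
    rw [Submodule.mem_bot, Submodule.Quotient.mk_eq_zero]
    rw [LinearMap.mem_ker] at hx
    change Submodule.Quotient.mk ((s * u₀) • x) = 0 at hx
    rw [Submodule.Quotient.mk_eq_zero, smul_eq_mul] at hx
    exact hP x _ (q.isPrime.mul_notMem hs hu₀) hx
  obtain ⟨φ, hφ⟩ := (Module.Baer.injective hE).out μ hμ φ₀
  refine ⟨φ (Submodule.Quotient.mk 1), fun r hr => ?_, u₀, hu₀, ?_⟩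
  · obtain ⟨b, hbq, hbr⟩ := SetLike.not_le_iff_exists.1 (show ¬ q.asIdeal ≤ r.asIdeal from hr)
    obtain ⟨n, hn⟩ : ∃ n : ℕ, b ^ n ∈ P := by
      by_contra hne
      push Not at hne
      let S : Submonoid R := q.asIdeal.primeCompl ⊔ Submonoid.powers b
      have hd : Disjoint (P : Set R) (S : Set R) := Set.disjoint_left.2 fun x hxP hxS => by
        obtain ⟨t, ht, y, ⟨n, rfl⟩, rfl⟩ := Submonoid.mem_sup.1 hxS
        exact hne n (hP _ t ht hxP)
      obtain ⟨r₀, hr₀, hPr, hdisj⟩ := Ideal.exists_le_prime_disjoint _ _ hd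
      have hle : r₀ ≤ q.asIdeal := fun x hx => by
        by_contra hxq
        exact Set.disjoint_left.1 hdisj hx (Submonoid.mem_sup_left (show x ∈ q.asIdeal.primeCompl from hxq))
      have hb₀ : b ∉ r₀ := fun hb =>
        Set.disjoint_left.1 hdisj hb (Submonoid.mem_sup_right (Submonoid.mem_powers b))
      obtain ⟨t, ht, ht'⟩ := he ⟨r₀, hr₀⟩ (lt_of_le_not_ge hle fun hge => hb₀ (hge hbq))
      exact ht (hPr ⟨1, q.asIdeal.one_notMem, by rw [one_smul]; exact ht'⟩)
    refine ⟨b ^ n, fun h => hbr (r.isPrime.mem_of_pow_mem n h), ?_⟩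
    rw [← map_smul, ← Submodule.Quotient.mk_smul, smul_eq_mul, mul_one,
      (Submodule.Quotient.mk_eq_zero P).2 hn, map_zero]
  · have h1 := hφ (Submodule.Quotient.mk 1)
    change φ ((s * u₀) • Submodule.Quotient.mk 1) = φ₀ (Submodule.Quotient.mk 1) at h1
    rw [map_smul, show φ₀ (Submodule.Quotient.mk 1) = u₀ • e from one_smul R _] at h1
    rw [smul_sub, ← mul_smul, mul_comm u₀ s, h1, sub_self]

variable [IsNoetherianRing R]

/-- An element vanishing at the generalisations of `q` is, up to a unit at `q`, supported on `V(q)`. -/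
theorem exists_supported {q : PrimeSpectrum R} {m : M} (hm : ∀ r, r < q → Van r m) :
    ∃ u, u ∉ q.asIdeal ∧ ∀ r : PrimeSpectrum R, ¬ q ≤ r → Van r (u • m) := by
  classical
  have hpow : ∀ b ∈ q.asIdeal, ∃ n : ℕ, Van q (b ^ n • m) := fun b hb => by
    by_contra hne
    push Not at hne
    let P : Ideal R := LinearMap.ker (LinearMap.toSpanSingleton R M m)
    let S : Submonoid R := q.asIdeal.primeCompl ⊔ Submonoid.powers b
    have hd : Disjoint (P : Set R) (S : Set R) := Set.disjoint_left.2 fun x hxP hxS => by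
      obtain ⟨t, ht, y, ⟨n, rfl⟩, rfl⟩ := Submonoid.mem_sup.1 hxS
      exact hne n ⟨t, ht, by rw [← mul_smul]; exact LinearMap.mem_ker.1 hxP⟩
    obtain ⟨r₀, hr₀, hPr, hdisj⟩ := Ideal.exists_le_prime_disjoint _ _ hd
    have hle : r₀ ≤ q.asIdeal := fun x hx => by
      by_contra hxq
      exact Set.disjoint_left.1 hdisj hx (Submonoid.mem_sup_left (show x ∈ q.asIdeal.primeCompl from hxq))
    have hb₀ : b ∉ r₀ := fun hb' =>
      Set.disjoint_left.1 hdisj hb' (Submonoid.mem_sup_right (Submonoid.mem_powers b))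
    obtain ⟨t, ht, ht'⟩ := hm ⟨r₀, hr₀⟩ (lt_of_le_not_ge hle fun hge => hb₀ (hge hb))
    exact ht (hPr (LinearMap.mem_ker.2 ht'))
  obtain ⟨G, hG⟩ := (IsNoetherian.noetherian q.asIdeal : q.asIdeal.FG)
  choose n u hu hu' using fun b : {b // b ∈ G} => hpow b.1 (hG ▸ Ideal.subset_span b.2)
  refine ⟨∏ b ∈ G.attach, u b, fun h => ?_, fun r hr => ?_⟩
  · obtain ⟨b, -, hb⟩ := (Ideal.IsPrime.prod_mem_iff (hp := q.isPrime)).1 h
    exact hu b hb
  · obtain ⟨b, hb⟩ : ∃ b : {b // b ∈ G}, b.1 ∉ r.asIdeal := by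
      by_contra hne
      push Not at hne
      refine hr (show q.asIdeal ≤ r.asIdeal from ?_)
      rw [← hG, Ideal.span_le]
      exact fun b hb => hne ⟨b, hb⟩
    refine ⟨b.1 ^ n b, fun h => hb (r.isPrime.mem_of_pow_mem _ h), ?_⟩
    rw [smul_comm, ← Finset.prod_erase_mul _ _ (Finset.mem_attach G b), mul_smul, hu', smul_zero]

/-- **From points to sets**: if `a` works at every point of `T₂ ∖ T₁`, a power of `a` works on `T₂` modulo `T₁`. -/
theorem exists_pow_smul_sub_mem (g : E →ₗ[R] M) (hE : Module.Baer R E) (a : R) (deg : PrimeSpectrum R → ℤ)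
    (hdeg : StrictMono deg) {lo hi : ℤ} (hrange : ∀ p, lo ≤ deg p ∧ deg p ≤ hi)
    {T₁ T₂ : Set (PrimeSpectrum R)} (hT₁ : StableUnderSpecialization T₁) (hT₂ : StableUnderSpecialization T₂)
    (K : Submodule R M) (hK : LinearMap.range g ≤ K)
    (hcond : ∀ q ∈ T₂, q ∉ T₁ → ∀ m ∈ K, (∀ r, r < q → Van r m) →
      ∃ (e : E) (s : R), s ∉ q.asIdeal ∧ (∀ r, r < q → Van r e) ∧ s • a • m = g e) :
    ∀ m ∈ Gam T₂ M, m ∈ K → ∃ e ∈ Gam T₂ E, a ^ (hi + 1 - lo).toNat • m - g e ∈ Gam T₁ M := by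
  classical
  suffices H : ∀ (k : ℕ) (m : M), m ∈ Gam (T₁ ∪ {q | q ∈ T₂ ∧ hi + 1 - (k : ℤ) ≤ deg q}) M → m ∈ K →
      ∃ e ∈ Gam T₂ E, a ^ k • m - g e ∈ Gam T₁ M by
    intro m hm hmK
    refine H _ m (fun r hr => hm r fun hr2 => hr (Or.inr ⟨hr2, ?_⟩)) hmK
    have := hrange r
    omega
  intro k
  induction k with
  | zero =>
    intro m hm hmK
    refine ⟨0, zero_mem _, fun r hr => ?_⟩
    rw [map_zero, sub_zero, pow_zero, one_smul]
    refine hm r ?_
    rintro (h | ⟨-, h⟩)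
    · exact hr h
    · have := hrange r
      omega
  | succ k ih =>
    intro m hm hmK
    set c : ℤ := hi + 1 - ((k + 1 : ℕ) : ℤ) with hc
    let Q : Set (PrimeSpectrum R) := {q | q ∈ T₂ ∧ q ∉ T₁ ∧ deg q = c ∧ ¬ Van q m}
    have hbelow : ∀ q ∈ Q, ∀ r, r < q → Van r m := fun q hq r hrq => hm r (by
      rintro (h | ⟨-, h⟩)
      · exact hq.2.1 (hT₁ ((PrimeSpectrum.le_iff_specializes r q).1 hrq.le) h)
      · have := hdeg hrq
        have := hq.2.2.1
        omega)
    have hQ : Q.Finite := by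
      refine Set.Finite.of_finite_image (f := PrimeSpectrum.asIdeal)
        ((Ideal.finite_minimalPrimes_of_isNoetherianRing R
          (LinearMap.ker (LinearMap.toSpanSingleton R M m))).subset ?_) (fun x _ y _ h => PrimeSpectrum.ext h)
      rintro _ ⟨q, hq, rfl⟩
      refine ⟨⟨q.isPrime, not_van_iff.1 hq.2.2.2⟩, fun P hP hPq => ?_⟩
      by_contra hne
      exact not_van_iff.2 hP.2 (hbelow q hq ⟨P, hP.1⟩ (lt_of_le_not_ge hPq hne))
    have hloc : ∀ q : {q // q ∈ hQ.toFinset}, ∃ e' : E, (∀ r : PrimeSpectrum R, ¬ q.1 ≤ r → Van r e') ∧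
        Van q.1 (a • m - g e') := fun q => by
      have hq : q.1 ∈ Q := hQ.mem_toFinset.1 q.2
      obtain ⟨e, s, hs, he, hse⟩ := hcond q.1 hq.1 hq.2.1 m hmK (hbelow q.1 hq)
      obtain ⟨e', he', u, hu, hue⟩ := exists_divide hE he hs
      refine ⟨e', he', u * s, q.1.isPrime.mul_notMem hu hs, ?_⟩
      rw [smul_sub, mul_smul, mul_smul, hse, ← map_smul g s e', ← map_smul g u, ← map_smul g u, ← map_sub,
        ← smul_sub, ← neg_sub, smul_neg, hue, neg_zero, map_zero]
    choose e' he' hve' using hloc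
    let e₁ := ∑ q, e' q
    have he₁ : e₁ ∈ Gam T₂ E := sum_mem fun q _ r hr => he' q r fun hqr =>
      hr (hT₂ ((PrimeSpectrum.le_iff_specializes q.1 r).1 hqr) (hQ.mem_toFinset.1 q.2).1)
    have hm₁ : a • m - g e₁ ∈ Gam (T₁ ∪ {q | q ∈ T₂ ∧ hi + 1 - (k : ℤ) ≤ deg q}) M := by
      intro r hr
      have hsum : ∀ (S : Finset {q // q ∈ hQ.toFinset}), (∀ q ∈ S, ¬ q.1 ≤ r) → Van r (g (∑ q ∈ S, e' q)) :=
        fun S hS => by
          induction S using Finset.induction with
          | empty => rw [Finset.sum_empty, map_zero]; exact Van.zero r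
          | insert q S hq ih =>
            rw [Finset.sum_insert hq, map_add]
            exact ((he' q r (hS q (Finset.mem_insert_self _ _))).map g).add
              (ih fun q' hq' => hS q' (Finset.mem_insert_of_mem hq'))
      by_cases hrQ : r ∈ Q
      · let q₀ : {q // q ∈ hQ.toFinset} := ⟨r, hQ.mem_toFinset.2 hrQ⟩
        have hsplit : a • m - g e₁ = (a • m - g (e' q₀)) - g (∑ q ∈ Finset.univ.erase q₀, e' q) := by
          rw [show e₁ = e' q₀ + ∑ q ∈ Finset.univ.erase q₀, e' q from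
            (Finset.add_sum_erase _ _ (Finset.mem_univ q₀)).symm, map_add, sub_sub]
        rw [hsplit]
        refine (hve' q₀).sub (hsum _ fun q hq hle => Finset.ne_of_mem_erase hq (Subtype.ext ?_))
        refine hle.eq_of_not_lt fun hlt => ?_
        have := hdeg hlt
        have := (hQ.mem_toFinset.1 q.2).2.2.1
        have := hrQ.2.2.1
        omega
      · refine Van.sub (Van.smul ?_ a) (hsum _ fun q _ hle => ?_)
        · by_cases hrc : r ∈ T₁ ∪ {q | q ∈ T₂ ∧ c ≤ deg q}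
          · rcases hrc with h | ⟨h2, h⟩
            · exact absurd (Or.inl h) hr
            · by_contra hv
              refine hrQ ⟨h2, fun h1 => hr (Or.inl h1), ?_, hv⟩
              refine le_antisymm ?_ h
              by_contra hlt
              exact hr (Or.inr ⟨h2, by omega⟩)
          · exact hm r hrc
        · have hq := hQ.mem_toFinset.1 q.2
          rcases hle.eq_or_lt with h | h
          · exact hrQ (h ▸ hq)
          · have := hdeg h
            have := hq.2.2.1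
            exact hr (Or.inr ⟨hT₂ ((PrimeSpectrum.le_iff_specializes q.1 r).1 hle) hq.1, by omega⟩)
    obtain ⟨e₂, he₂, h₂⟩ := ih _ hm₁ (sub_mem (K.smul_mem a hmK) (hK ⟨e₁, rfl⟩))
    refine ⟨a ^ k • e₁ + e₂, add_mem (Submodule.smul_mem _ _ he₁) he₂, ?_⟩
    have heq : a ^ (k + 1) • m - g (a ^ k • e₁ + e₂) = a ^ k • (a • m - g e₁) - g e₂ := by
      rw [map_add, map_smul, smul_sub, pow_succ, mul_smul, sub_sub]
    rw [heq]
    exact h₂

end GrothLib.FaltingsT3
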