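import Groth.Agent.Lib.FaltingsT3.Pres
import Groth.Agent.Lib.LCSupp.Basic

/-!
# `H^i_T` is killed by `a` iff the criterion holds
-/

set_option autoImplicit false
universe u

open CategoryTheory CategoryTheory.Limits CategoryTheory.Abelian PrimeSpectrum GrothLib.LCSupp

namespace GrothLib.FaltingsT3

variable {R : Type u} [CommRing R] {T : Set (PrimeSpectrum R)}

/-- The annihilator of an element. -/
abbrev annOf {M : Type u} [AddCommGroup M] [Module R M] (m : M) : Ideal R :=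
  LinearMap.ker (LinearMap.toSpanSingleton R M m)

theorem mem_Gam_iff_exists (hT : StableUnderSpecialization T) {M : Type u} [AddCommGroup M] [Module R M] {m : M} :
    m ∈ Gam T M ↔ ∃ J : Ideal R, zeroLocus (J : Set R) ⊆ T ∧ ∀ a ∈ J, a • m = 0 := by
  refine ⟨fun h => ⟨annOf m, fun r hr => ?_, fun a ha => LinearMap.mem_ker.mp ha⟩, fun ⟨J, hJ, h⟩ r hr => ?_⟩
  · by_contra hrT
    exact not_van_iff.mpr hr (h r hrT)
  · obtain ⟨a, haJ, har⟩ := SetLike.not_le_iff_exists.mp (fun hle : J ≤ r.asIdeal => hr (hJ hle))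
    exact ⟨a, har, h a haJ⟩

/-- The map `R/J → M` given by an element killed by `J`. -/
noncomputable def liftPt {M : ModuleCat.{u} R} (J : Ideal R) (m : M) (h : ∀ a ∈ J, a • m = 0) : quotI J ⟶ M :=
  ModuleCat.ofHom (Submodule.liftQ J (LinearMap.toSpanSingleton R M m) fun a ha => LinearMap.mem_ker.mpr (h a ha))

theorem liftPt_one {M : ModuleCat.{u} R} (J : Ideal R) (m : M) (h : ∀ a ∈ J, a • m = 0) :
    (liftPt J m h).hom (Submodule.Quotient.mk 1) = m := one_smul R m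

theorem hom_ext_one {M : ModuleCat.{u} R} {J : Ideal R} {f f' : quotI J ⟶ M}
    (h : f.hom (Submodule.Quotient.mk 1) = f'.hom (Submodule.Quotient.mk 1)) : f = f' :=
  ModuleCat.hom_ext (Submodule.linearMap_qext _ (LinearMap.ext_ring h))

theorem toHT_zero_eq_iff {M : ModuleCat.{u} R} {J J' : Ideal R} {hJ : zeroLocus (J : Set R) ⊆ T}
    {hJ' : zeroLocus (J' : Set R) ⊆ T} (f : quotI J ⟶ M) (f' : quotI J' ⟶ M) :
    toHT 0 J hJ M (Ext.mk₀ f) = toHT 0 J' hJ' M (Ext.mk₀ f') ↔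
      f.hom (Submodule.Quotient.mk 1) = f'.hom (Submodule.Quotient.mk 1) := by
  rw [toHT_eq_toHT_iff]
  constructor
  · rintro ⟨K, _, h, h', he⟩
    rw [Ext.mk₀_comp_mk₀, Ext.mk₀_comp_mk₀] at he
    have h0 := congrArg (fun φ : quotI K ⟶ M => φ.hom (Submodule.Quotient.mk 1))
      ((Ext.mk₀_bijective (quotI K) M).1 he)
    exact h0
  · intro h
    refine ⟨J * J', mem_mul hJ hJ', Ideal.mul_le_left, Ideal.mul_le_right, ?_⟩
    rw [Ext.mk₀_comp_mk₀, Ext.mk₀_comp_mk₀]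
    exact congrArg Ext.mk₀ (hom_ext_one h)

theorem exists_mk₀_rep {M : ModuleCat.{u} R} (x : (HF T 0).obj M) :
    ∃ (J : Ideal R) (hJ : zeroLocus (J : Set R) ⊆ T) (f : quotI J ⟶ M), toHT 0 J hJ M (Ext.mk₀ f) = x := by
  obtain ⟨J, hJ, e, rfl⟩ := exists_toHT x
  obtain ⟨f, rfl⟩ := (Ext.mk₀_bijective (quotI J) M).2 e
  exact ⟨J, hJ, f, rfl⟩

theorem value_mem_Gam (hT : StableUnderSpecialization T) {M : ModuleCat.{u} R} {J : Ideal R}
    (hJ : zeroLocus (J : Set R) ⊆ T) (f : quotI J ⟶ M) : f.hom (Submodule.Quotient.mk 1) ∈ Gam T M := by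
  refine (mem_Gam_iff_exists hT).mpr ⟨J, hJ, fun a ha => ?_⟩
  rw [← map_smul, ← Submodule.Quotient.mk_smul, smul_eq_mul, mul_one, (Submodule.Quotient.mk_eq_zero J).mpr ha,
    map_zero]

theorem killed_zero_iff (hT : StableUnderSpecialization T) (a : R) (M : ModuleCat.{u} R) :
    (∀ x : (HF T 0).obj M, a • x = 0) ↔ ∀ m ∈ Gam T M, a • m = 0 := by
  constructor
  · intro h m hm
    obtain ⟨J, hJ, hm⟩ := (mem_Gam_iff_exists hT).mp hm
    have h0 := h (toHT 0 J hJ M (Ext.mk₀ (liftPt J m hm)))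
    rw [← map_smul, ← Ext.mk₀_smul, ← (toHT 0 J hJ M).map_zero, ← Ext.mk₀_zero, toHT_zero_eq_iff] at h0
    exact (congrArg (a • ·) (liftPt_one J m hm)).symm.trans h0
  · intro h x
    obtain ⟨J, hJ, f, rfl⟩ := exists_mk₀_rep x
    rw [← map_smul, ← Ext.mk₀_smul, ← (toHT 0 J hJ M).map_zero, ← Ext.mk₀_zero, toHT_zero_eq_iff]
    exact h _ (value_mem_Gam hT hJ f)

section seq

variable {S : ShortComplex (ModuleCat.{u} R)} (hS : S.ShortExact) [Injective S.X₂]

theorem eq_zero_injective {E : ModuleCat.{u} R} [Injective E] {i : ℕ} (x : (HF T (i + 1)).obj E) : x = 0 := by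
  obtain ⟨J, hJ, e, rfl⟩ := exists_toHT x
  rw [Ext.eq_zero_of_injective e, map_zero]

theorem δ_surjective (i : ℕ) : Function.Surjective (δ (T := T) hS i) := fun x => by
  obtain ⟨J, hJ, e, he⟩ := exists_of_map_f_eq_zero hS (x := x) (eq_zero_injective _)
  exact ⟨toHT i J hJ _ e, (δ_toHT hS e).trans he⟩

omit [Injective S.X₂] in
theorem δ_map_g' (i : ℕ) (x : (HF T i).obj S.X₂) : δ (T := T) hS i ((HF T i).map S.g x) = 0 := by
  obtain ⟨J, hJ, e, rfl⟩ := exists_toHT x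
  rw [map_toHT, δ_toHT, Ext.comp_assoc_of_second_deg_zero, ShortComplex.ShortExact.comp_extClass, Ext.comp_zero,
    map_zero]

omit [Injective S.X₂] in
theorem exists_of_δ_eq_zero {i : ℕ} {x : (HF T i).obj S.X₃} (hx : δ (T := T) hS i x = 0) :
    ∃ y, (HF T i).map S.g y = x := by
  obtain ⟨J, hJ, e, rfl, h⟩ := exists_δ hS x
  rw [δ_toHT] at hx
  obtain ⟨y, hy⟩ := h 1 (by rw [hx, smul_zero])
  exact ⟨y, by rw [hy, one_smul]⟩

include hS in
theorem killed_succ_iff (i : ℕ) (a : R) :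
    (∀ x : (HF T (i + 2)).obj S.X₁, a • x = 0) ↔ ∀ y : (HF T (i + 1)).obj S.X₃, a • y = 0 := by
  constructor
  · intro h y
    have h0 := h (δ (T := T) hS (i + 1) y)
    rw [← map_smul] at h0
    obtain ⟨z, hz⟩ := exists_of_δ_eq_zero hS h0
    rw [← hz, eq_zero_injective z, map_zero]
  · intro h x
    obtain ⟨y, rfl⟩ := δ_surjective (T := T) hS (i + 1) x
    rw [← map_smul, h y, map_zero]

include hS in
theorem killed_one_iff (hT : StableUnderSpecialization T) (a : R) :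
    (∀ x : (HF T 1).obj S.X₁, a • x = 0) ↔ ∀ m ∈ Gam T S.X₃, ∃ e ∈ Gam T S.X₂, S.g.hom e = a • m := by
  constructor
  · intro h m hm
    obtain ⟨J, hJ, hm⟩ := (mem_Gam_iff_exists hT).mp hm
    have h0 := h (δ (T := T) hS 0 (toHT 0 J hJ _ (Ext.mk₀ (liftPt J m hm))))
    rw [← map_smul, ← map_smul, ← Ext.mk₀_smul] at h0
    obtain ⟨z, hz⟩ := exists_of_δ_eq_zero hS h0
    obtain ⟨J', hJ', f, rfl⟩ := exists_mk₀_rep z
    rw [map_toHT, Ext.mk₀_comp_mk₀, toHT_zero_eq_iff] at hz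
    exact ⟨f.hom (Submodule.Quotient.mk 1), value_mem_Gam hT hJ' f,
      hz.trans (congrArg (a • ·) (liftPt_one J m hm))⟩
  · intro h x
    obtain ⟨y, rfl⟩ := δ_surjective (T := T) hS 0 x
    obtain ⟨J, hJ, f, rfl⟩ := exists_mk₀_rep y
    obtain ⟨e, he, hge⟩ := h _ (value_mem_Gam hT hJ f)
    obtain ⟨J', hJ', he'⟩ := (mem_Gam_iff_exists hT).mp he
    have hh : (HF T 0).map S.g (toHT 0 J' hJ' _ (Ext.mk₀ (liftPt J' e he'))) =
        a • toHT 0 J hJ _ (Ext.mk₀ f) := by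
      rw [map_toHT, Ext.mk₀_comp_mk₀, ← map_smul, ← Ext.mk₀_smul, toHT_zero_eq_iff]
      exact (congrArg S.g.hom (liftPt_one J' e he')).trans hge
    rw [← map_smul, ← hh, δ_map_g']

end seq

/-- `a` kills `H^i_T(M)` iff the criterion holds. -/
theorem killed_iff (hT : StableUnderSpecialization T) (a : R) :
    ∀ (i : ℕ) (M : ModuleCat.{u} R), (∀ x : (HF T i).obj M, a • x = 0) ↔ Crit T a (pres i M)
  | 0, M => (killed_zero_iff hT a M).trans
      ⟨fun h m hm => ⟨0, zero_mem _, (h m hm).symm⟩, fun h m hm => by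
        obtain ⟨e, -, he⟩ := h m hm
        exact he.symm⟩
  | 1, M =>
    haveI : Injective (envS M).X₂ := injective_envJ M
    killed_one_iff (envS_shortExact M) hT a
  | i + 2, M =>
    haveI : Injective (envS M).X₂ := injective_envJ M
    (killed_succ_iff (envS_shortExact M) i a).trans (killed_iff hT a (i + 1) (coz M))

end GrothLib.FaltingsT3
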