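import Groth.Agent.Lib.FaltingsT3.Pres
import Groth.Agent.Lib.LC.Shift
import Groth.Agent.Lib.InjMod.Noetherian
import Groth.Prelude.Def_Wider

/-!
# The pointwise criterion is the annihilation of local cohomology of the localised module
-/

set_option autoImplicit false
universe u

open CategoryTheory CategoryTheory.Limits

namespace GrothLib.FaltingsT3

variable {R : Type u} [CommRing R] (q : PrimeSpectrum R)

/-- The localisation at `q`. -/
abbrev Rq : Type u := Localization.AtPrime q.asIdeal

/-- The localised module. -/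
noncomputable abbrev locM (M : ModuleCat.{u} R) : ModuleCat.{u} (Rq q) :=
  ModuleCat.of (Rq q) (LocalizedModule q.asIdeal.primeCompl M)

/-- The localised map. -/
noncomputable def locMap {M N : ModuleCat.{u} R} (f : M ⟶ N) : locM q M ⟶ locM q N :=
  ModuleCat.ofHom (LocalizedModule.map q.asIdeal.primeCompl f.hom)

theorem locMap_mk {M N : ModuleCat.{u} R} (f : M ⟶ N) (m : M) (s : q.asIdeal.primeCompl) :
    (locMap q f).hom (LocalizedModule.mk m s) = LocalizedModule.mk (f.hom m) s := by
  simp [locMap, LocalizedModule.map_mk]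

theorem mk_eq_zero_iff {M : ModuleCat.{u} R} (m : M) (s : q.asIdeal.primeCompl) :
    (LocalizedModule.mk m s : LocalizedModule q.asIdeal.primeCompl M) = 0 ↔ Van q m := by
  rw [← LocalizedModule.zero_mk s, LocalizedModule.mk_eq]
  constructor
  · rintro ⟨u, hu⟩
    refine ⟨(u : R) * s, q.isPrime.mul_notMem u.2 s.2, ?_⟩
    simp only [smul_zero, Submonoid.smul_def] at hu
    rw [mul_smul]
    exact hu
  · rintro ⟨u, hu, hum⟩
    refine ⟨⟨u, hu⟩, ?_⟩
    simp only [smul_zero, Submonoid.smul_def]
    rw [smul_comm, hum, smul_zero]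

theorem exists_pow_van {M : ModuleCat.{u} R} {m : M} (hm : ∀ r, r < q → Van r m) {b : R} (hb : b ∈ q.asIdeal) :
    ∃ n : ℕ, Van q (b ^ n • m) := by
  by_contra hne
  push Not at hne
  let P : Ideal R := LinearMap.ker (LinearMap.toSpanSingleton R M m)
  let S : Submonoid R := q.asIdeal.primeCompl ⊔ Submonoid.powers b
  have hd : Disjoint (P : Set R) (S : Set R) := Set.disjoint_left.2 fun x hxP hxS => by
    obtain ⟨t, ht, y, ⟨n, rfl⟩, rfl⟩ := Submonoid.mem_sup.1 hxS
    exact hne n ⟨t, ht, by rw [← mul_smul]; exact LinearMap.mem_ker.1 hxP⟩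
  obtain ⟨r₀, hr₀, hPr, hdisj⟩ := Ideal.exists_le_prime_disjoint _ _ hd
  have hle : r₀ ≤ q.asIdeal := fun x hx => by
    by_contra hxq
    exact Set.disjoint_left.1 hdisj hx (Submonoid.mem_sup_left (show x ∈ q.asIdeal.primeCompl from hxq))
  have hb₀ : b ∉ r₀ := fun hb' =>
    Set.disjoint_left.1 hdisj hb' (Submonoid.mem_sup_right (Submonoid.mem_powers b))
  obtain ⟨t, ht, ht'⟩ := hm ⟨r₀, hr₀⟩ (lt_of_le_not_ge hle fun hge => hb₀ (hge hb))
  exact ht (hPr (LinearMap.mem_ker.2 ht'))

variable [IsNoetherianRing R]

/-- Fractions killed by a power of the maximal ideal come from elements vanishing at the generalisations. -/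
theorem mk_mem_torsion_iff {M : ModuleCat.{u} R} (m : M) (s : q.asIdeal.primeCompl) :
    (LocalizedModule.mk m s : LocalizedModule q.asIdeal.primeCompl M) ∈
        DRing.torsionSub (IsLocalRing.maximalIdeal (Rq q)) (locM q M) ↔ ∀ r, r < q → Van r m := by
  have hsmul : ∀ b : R, algebraMap R (Rq q) b • (LocalizedModule.mk m s : LocalizedModule q.asIdeal.primeCompl M) =
      LocalizedModule.mk (b • m) s := fun b => by rw [algebraMap_smul, LocalizedModule.smul'_mk]
  constructor
  · rintro ⟨n, hn⟩ r hr
    obtain ⟨b, hbq, hbr⟩ := SetLike.exists_of_lt (show r.asIdeal < q.asIdeal from hr)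
    have h : algebraMap R (Rq q) b ^ n ∈ IsLocalRing.maximalIdeal (Rq q) ^ n :=
      Ideal.pow_mem_pow ((IsLocalization.AtPrime.to_map_mem_maximal_iff (Rq q) q.asIdeal b).2 hbq) n
    have h0 := hn _ h
    rw [← map_pow, hsmul, mk_eq_zero_iff] at h0
    obtain ⟨t, ht, ht'⟩ := h0
    exact ⟨t * b ^ n, r.isPrime.mul_notMem (fun h' => ht (hr.le h')) fun h' => hbr (r.isPrime.mem_of_pow_mem n h'),
      by rw [mul_smul]; exact ht'⟩
  · intro hm
    let P : Ideal (Rq q) :=
      LinearMap.ker (LinearMap.toSpanSingleton (Rq q) (LocalizedModule q.asIdeal.primeCompl M) (LocalizedModule.mk m s))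
    have hle : IsLocalRing.maximalIdeal (Rq q) ≤ P.radical := by
      rw [← Localization.AtPrime.map_eq_maximalIdeal, Ideal.map_le_iff_le_comap]
      intro b hb
      obtain ⟨n, hn⟩ := exists_pow_van q hm hb
      refine ⟨n, LinearMap.mem_ker.2 ?_⟩
      rw [LinearMap.toSpanSingleton_apply, ← map_pow, hsmul, mk_eq_zero_iff]
      exact hn
    obtain ⟨n, hn⟩ := Ideal.exists_pow_le_of_le_radical_of_fg hle (IsNoetherian.noetherian _)
    exact ⟨n, fun x hx => LinearMap.mem_ker.1 (hn hx)⟩

/-- The localised injective presentation. -/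
noncomputable def locS (M : ModuleCat.{u} R) : ShortComplex (ModuleCat.{u} (Rq q)) :=
  ShortComplex.mk (locMap q (envι M)) (locMap q (envπ M)) (ModuleCat.hom_ext (LinearMap.ext fun x => by
    induction x using LocalizedModule.induction_on with
    | h m s =>
      show (locMap q (envπ M)).hom ((locMap q (envι M)).hom (LocalizedModule.mk m s)) = 0
      rw [locMap_mk, locMap_mk]
      have : (envπ M).hom ((envι M).hom m) = 0 := (Submodule.Quotient.mk_eq_zero _).2 ⟨m, rfl⟩
      rw [this, LocalizedModule.zero_mk]))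

theorem locS_shortExact (M : ModuleCat.{u} R) : (locS q M).ShortExact where
  exact := by
    rw [ShortComplex.ShortExact.moduleCat_exact_iff_function_exact]
    exact LocalizedModule.map_exact q.asIdeal.primeCompl _ _ (LinearMap.exact_map_mkQ_range (envι M).hom)
  mono_f := (ModuleCat.mono_iff_injective _).2
    (LocalizedModule.map_injective q.asIdeal.primeCompl _ ((ModuleCat.mono_iff_injective _).1 (mono_envι M)))
  epi_g := (ModuleCat.epi_iff_surjective _).2
    (LocalizedModule.map_surjective q.asIdeal.primeCompl _ (Submodule.mkQ_surjective _))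

theorem injective_locS (M : ModuleCat.{u} R) : Injective (locS q M).X₂ :=
  haveI : Injective (ModuleCat.of R (envJ M)) := injective_envJ M
  Module.injective_object_of_injective_module (Rq q) (LocalizedModule q.asIdeal.primeCompl (envJ M))
    (inj := GrothLib.InjMod.injective_localizedModule q.asIdeal.primeCompl
      (Module.injective_module_of_injective_object R (envJ M)))

theorem killed_zero_local_iff (a : R) (M : ModuleCat.{u} R) :
    (∀ x : (localCohomology (IsLocalRing.maximalIdeal (Rq q)) 0).obj (locM q M), algebraMap R (Rq q) a • x = 0) ↔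
      Cond (pres 0 M).g.hom a q := by
  constructor
  · intro h m hm
    let x : DRing.torsionSub (IsLocalRing.maximalIdeal (Rq q)) (locM q M) :=
      ⟨LocalizedModule.mk m 1, (mk_mem_torsion_iff q m 1).2 hm⟩
    have h0 := h (GrothLib.LC.torsionEquiv _ (locM q M) x)
    rw [← map_smul, LinearEquiv.map_eq_zero_iff] at h0
    have h1 : algebraMap R (Rq q) a • (LocalizedModule.mk m 1 : LocalizedModule q.asIdeal.primeCompl M) = 0 :=
      congrArg Subtype.val h0
    rw [algebraMap_smul, LocalizedModule.smul'_mk, mk_eq_zero_iff] at h1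
    obtain ⟨s, hs, hs'⟩ := h1
    exact ⟨0, s, hs, fun r _ => Van.zero r, hs'.trans (map_zero _).symm⟩
  · intro h x
    obtain ⟨⟨y, hy⟩, rfl⟩ := (GrothLib.LC.torsionEquiv _ (locM q M)).surjective x
    rw [← map_smul, LinearEquiv.map_eq_zero_iff]
    apply Subtype.ext
    induction y using LocalizedModule.induction_on with
    | h m s =>
      obtain ⟨e, t, ht, -, hte⟩ := h m ((mk_mem_torsion_iff q m s).1 hy)
      show algebraMap R (Rq q) a • (LocalizedModule.mk m s : LocalizedModule q.asIdeal.primeCompl M) = 0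
      rw [algebraMap_smul, LocalizedModule.smul'_mk, mk_eq_zero_iff]
      exact ⟨t, ht, hte⟩

theorem killed_one_local_iff (a : R) (M : ModuleCat.{u} R) :
    (∀ x : (localCohomology (IsLocalRing.maximalIdeal (Rq q)) 1).obj (locM q M), algebraMap R (Rq q) a • x = 0) ↔
      Cond (pres 1 M).g.hom a q := by
  have hS := locS_shortExact q M
  haveI := injective_locS q M
  have hh : ∀ i, Subsingleton ((localCohomology (IsLocalRing.maximalIdeal (Rq q)) (i + 1)).obj (locS q M).X₂) :=
    fun i => GrothLib.LC.subsingleton_of_injective _ _ i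
  constructor
  · intro h (m : coz M) hm
    let x : DRing.torsionSub (IsLocalRing.maximalIdeal (Rq q)) (locS q M).X₃ :=
      ⟨LocalizedModule.mk m 1, (mk_mem_torsion_iff q m 1).2 hm⟩
    have h0 := (map_smul (GrothLib.LC.torsionδ _ hS) (algebraMap R (Rq q) a) x).trans
      (h (GrothLib.LC.torsionδ _ hS x))
    obtain ⟨y, hy, hye⟩ := (GrothLib.LC.mem_ker_torsionδ _ hS _).mp h0
    induction y using LocalizedModule.induction_on with
    | h e s =>
      change (locMap q (envπ M)).hom (LocalizedModule.mk e s) =
        algebraMap R (Rq q) a • (LocalizedModule.mk m 1 : LocalizedModule q.asIdeal.primeCompl (coz M)) at hye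
      rw [locMap_mk, algebraMap_smul, LocalizedModule.smul'_mk, LocalizedModule.mk_eq] at hye
      obtain ⟨u, hu⟩ := hye
      simp only [Submonoid.smul_def, Submonoid.coe_one, one_smul] at hu
      refine ⟨(u : R) • e, u * s, q.isPrime.mul_notMem u.2 s.2,
        fun r hr => ((mk_mem_torsion_iff q e s).1 hy r hr).smul _, ?_⟩
      exact ((mul_smul (u : R) (s : R) _).trans hu.symm).trans (map_smul (envπ M).hom (u : R) e).symm
  · intro h x
    obtain ⟨⟨y, hy⟩, rfl⟩ := GrothLib.LC.torsionδ_surjective _ hS hh x
    refine (map_smul (GrothLib.LC.torsionδ _ hS) (algebraMap R (Rq q) a) _).symm.trans ?_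
    refine (GrothLib.LC.mem_ker_torsionδ _ hS _).mpr ?_
    induction y using LocalizedModule.induction_on with
    | h m s =>
      obtain ⟨e, t, ht, he, hte⟩ := h m ((mk_mem_torsion_iff q m s).1 hy)
      let t' : q.asIdeal.primeCompl := ⟨t, ht⟩
      refine ⟨LocalizedModule.mk (M := envJ M) e (t' * s), (mk_mem_torsion_iff q e (t' * s)).2 he, ?_⟩
      show (locMap q (envπ M)).hom (LocalizedModule.mk e (t' * s)) =
        algebraMap R (Rq q) a • (LocalizedModule.mk m s : LocalizedModule q.asIdeal.primeCompl (coz M))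
      rw [locMap_mk, algebraMap_smul, LocalizedModule.smul'_mk]
      have hge : (envπ M).hom e = t' • (a • m : coz M) := hte.symm
      rw [hge, LocalizedModule.mk_cancel_common_left]

/-- `a` kills `H^i_q(M_q)` iff the pointwise criterion holds. -/
theorem killed_local_iff (a : R) :
    ∀ (i : ℕ) (M : ModuleCat.{u} R),
      (∀ x : (localCohomology (IsLocalRing.maximalIdeal (Rq q)) i).obj (locM q M), algebraMap R (Rq q) a • x = 0) ↔
        Cond (pres i M).g.hom a q
  | 0, M => killed_zero_local_iff q a M
  | 1, M => killed_one_local_iff q a M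
  | i + 2, M => by
    haveI := injective_locS q M
    let e := GrothLib.LC.shiftEquiv _ (locS_shortExact q M)
      (fun j => GrothLib.LC.subsingleton_of_injective (IsLocalRing.maximalIdeal (Rq q)) _ j) i
    refine Iff.trans ?_ (killed_local_iff a (i + 1) (coz M))
    refine ⟨fun h y => e.injective ?_, fun h x => ?_⟩
    · exact ((map_smul e (algebraMap R (Rq q) a) y).trans (h _)).trans (map_zero e).symm
    · obtain ⟨y, rfl⟩ := e.surjective x
      exact ((map_smul e (algebraMap R (Rq q) a) y).symm.trans (congrArg e (h y))).trans (map_zero e)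

end GrothLib.FaltingsT3
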