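import Groth.Agent.Lib.FaltingsT3.Gamma

/-!
# Iterated injective presentations
-/

set_option autoImplicit false
universe u

open CategoryTheory CategoryTheory.Limits

namespace GrothLib.FaltingsT3

/-- A map out of an injective module. -/
structure Pres (R : Type u) [CommRing R] where
  /-- the source -/
  E : ModuleCat.{u} R
  /-- the target -/
  C : ModuleCat.{u} R
  /-- the map -/
  g : E ⟶ C
  baer : Module.Baer R E

variable {R : Type u} [CommRing R]

/-- An injective envelope of `M`. -/
noncomputable def envJ (M : ModuleCat.{u} R) : ModuleCat.{u} R := (EnoughInjectives.presentation M).some.J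

instance injective_envJ (M : ModuleCat.{u} R) : Injective (envJ M) := (EnoughInjectives.presentation M).some.injective

/-- The embedding. -/
noncomputable def envι (M : ModuleCat.{u} R) : M ⟶ envJ M := (EnoughInjectives.presentation M).some.f

instance mono_envι (M : ModuleCat.{u} R) : Mono (envι M) := (EnoughInjectives.presentation M).some.mono

theorem baer_envJ (M : ModuleCat.{u} R) : Module.Baer R (envJ M) :=
  haveI : Injective (ModuleCat.of R (envJ M)) := injective_envJ M
  Module.Baer.of_injective (Module.injective_module_of_injective_object R (envJ M))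

/-- The first cosyzygy. -/
noncomputable def coz (M : ModuleCat.{u} R) : ModuleCat.{u} R :=
  ModuleCat.of R (envJ M ⧸ LinearMap.range (envι M).hom)

/-- The projection. -/
noncomputable def envπ (M : ModuleCat.{u} R) : envJ M ⟶ coz M := ModuleCat.ofHom (Submodule.mkQ _)

/-- The injective presentation. -/
noncomputable def envS (M : ModuleCat.{u} R) : ShortComplex (ModuleCat.{u} R) :=
  ShortComplex.mk (envι M) (envπ M)
    (ModuleCat.hom_ext (LinearMap.range_le_ker_iff.mp (Submodule.ker_mkQ _).ge))

theorem envS_shortExact (M : ModuleCat.{u} R) : (envS M).ShortExact where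
  exact := by
    rw [ShortComplex.ShortExact.moduleCat_exact_iff_function_exact]
    exact LinearMap.exact_map_mkQ_range _
  mono_f := mono_envι M
  epi_g := (ModuleCat.epi_iff_surjective _).mpr (Submodule.mkQ_surjective _)

/-- The map whose cokernel on sections with supports is the `i`-th local cohomology. -/
noncomputable def pres : ℕ → ModuleCat.{u} R → Pres R
  | 0, M =>
    { E := ModuleCat.of R PUnit.{u + 1}, C := M, g := 0,
      baer := fun _ _ => ⟨0, fun _ _ => Subsingleton.elim _ _⟩ }
  | 1, M => { E := envJ M, C := coz M, g := envπ M, baer := baer_envJ M }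
  | i + 2, M => pres (i + 1) (coz M)

theorem pres_zero (M : ModuleCat.{u} R) : (pres 0 M).C = M := rfl

theorem pres_succ_succ (i : ℕ) (M : ModuleCat.{u} R) : pres (i + 2) M = pres (i + 1) (coz M) := rfl

/-- The criterion for `a` to kill the `i`-th cohomology with supports in `T`. -/
def Crit (T : Set (PrimeSpectrum R)) (a : R) (P : Pres R) : Prop :=
  ∀ m ∈ Gam T P.C, ∃ e ∈ Gam T P.E, P.g.hom e = a • m

end GrothLib.FaltingsT3
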